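import Groth.Agent.Lib.Depth.HartogsUnit
import Groth.Agent.Lib.HomSh.Criterion
import Groth.Agent.Lib.CMMor6.Algebra

/-!
Sections of a dual `𝓗om(H, O_X)` extend uniquely across points of depth two of `O_X`.
-/

set_option autoImplicit false
set_option linter.all false
set_option backward.isDefEq.respectTransparency false

universe u

open CategoryTheory AlgebraicGeometry TopologicalSpace Opposite

namespace GrothLib.DualHartogs2

open GrothLib.Depth (mres mres_bijective germ_mres)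

variable {X : Scheme.{u}} (U : X.Opens)

/-- The structure module extends uniquely from `U`. -/
def Ext : Prop :=
  ∀ V : X.Opens, Function.Bijective (mres (Coh.structureModule X) (inf_le_left : V ⊓ U ≤ V))

theorem ext_of_depth [IsLocallyNoetherian X]
    (hU : ∀ x : X, x ∉ U → (2 : ℕ∞) ≤ LocCoh.depth (X.presheaf.stalk x) (X.presheaf.stalk x)) : Ext U := fun V => by
  haveI : (Coh.structureModule X).IsQuasicoherent := (HomSh.isCoh_structureModule X).1
  haveI : (Coh.structureModule X).IsFiniteType := (HomSh.isCoh_structureModule X).2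
  refine mres_bijective (fun x hx => ?_) V
  haveI : IsNoetherianRing (X.presheaf.stalk x) := inferInstance
  haveI := Module.Finite.equiv (HomSh.unitStalk x)
  exact (hU x hx).trans (GrothLib.Depth.idealDepth_eq_of_equiv _ (HomSh.unitStalk x)).le

variable {U} {H : X.Modules} (hO : Ext U)
include hO

theorem secEq {W : X.Opens} {n n' : Γ(Coh.structureModule X, W)}
    (h : ∀ (y : X) (hy : y ∈ W), y ∈ U →
      (Coh.structureModule X).presheaf.germ W y hy n = (Coh.structureModule X).presheaf.germ W y hy n') : n = n' := by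
  refine (hO W).1 (TopCat.Presheaf.section_ext ⟨(Coh.structureModule X).presheaf, (Coh.structureModule X).isSheaf⟩
    _ _ _ fun y hy => ?_)
  exact ((germ_mres (Coh.structureModule X) inf_le_left y hy n).trans (h y hy.1 hy.2)).trans
    (germ_mres (Coh.structureModule X) inf_le_left y hy n').symm

variable {V : X.Opens} (s : Γ(RefHull.homSh H (Coh.structureModule X), V ⊓ U))

theorem exists_ext {W : X.Opens} (hW : W ≤ V) (m : Γ(H, W)) :
    ∃ n : Γ(Coh.structureModule X, W), ∀ (y : X) (hy : y ∈ W) (hyU : y ∈ U),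
      (Coh.structureModule X).presheaf.germ W y hy n = s.1 ⟨y, hW hy, hyU⟩ (H.presheaf.germ W y hy m) := by
  let O := Coh.structureModule X
  let i : W ⊓ U ⟶ V ⊓ U := homOfLE (inf_le_inf_right U hW)
  have hloc : ∀ x : (W ⊓ U : X.Opens), ∃ (T : X.Opens) (_ : x.1 ∈ T) (j : T ⟶ W ⊓ U) (n : Γ(O, T)),
      ∀ y : T, s.1 ⟨y.1, i.le (j.le y.2)⟩ (H.presheaf.germ (W ⊓ U) y.1 (j.le y.2)
        (H.presheaf.map (homOfLE inf_le_left).op m)) = O.presheaf.germ T y.1 y.2 n :=
    fun x => RefHull.isLocSect_of_mem s (W ⊓ U) i (H.presheaf.map (homOfLE inf_le_left).op m) x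
  choose T hxT j n hn using hloc
  have hcov : W ⊓ U ≤ iSup T := fun y hy => Opens.mem_iSup.2 ⟨⟨y, hy⟩, hxT ⟨y, hy⟩⟩
  obtain ⟨t, ht, -⟩ := TopCat.Sheaf.existsUnique_gluing' (C := Ab.{u}) (X := X.carrier) ⟨O.presheaf, O.isSheaf⟩
    T (W ⊓ U) j hcov n (fun a b => by
      refine TopCat.Presheaf.section_ext (C := Ab.{u}) (X := X.carrier) ⟨O.presheaf, O.isSheaf⟩ _ _ _
        fun z hz => ?_
      change O.presheaf.germ _ z hz (O.presheaf.map _ (n a)) = O.presheaf.germ _ z hz (O.presheaf.map _ (n b))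
      rw [TopCat.Presheaf.germ_res_apply, TopCat.Presheaf.germ_res_apply]
      exact (hn a ⟨z, hz.1⟩).symm.trans (hn b ⟨z, hz.2⟩))
  obtain ⟨N, hN⟩ := (hO W).2 t
  refine ⟨N, fun y hy hyU => ?_⟩
  have h1 := congrArg (O.presheaf.germ (T ⟨y, hy, hyU⟩) y (hxT ⟨y, hy, hyU⟩)) (ht ⟨y, hy, hyU⟩)
  erw [TopCat.Presheaf.germ_res_apply] at h1
  have h2 := hn ⟨y, hy, hyU⟩ ⟨y, hxT ⟨y, hy, hyU⟩⟩
  rw [TopCat.Presheaf.germ_res_apply] at h2
  refine (germ_mres O inf_le_left y ⟨hy, hyU⟩ N).symm.trans ?_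
  rw [hN]
  exact h1.trans h2.symm

/-- The extended value on a local section. -/
noncomputable def extSec {W : X.Opens} (hW : W ≤ V) (m : Γ(H, W)) : Γ(Coh.structureModule X, W) :=
  (exists_ext hO s hW m).choose

theorem germ_extSec {W : X.Opens} (hW : W ≤ V) (m : Γ(H, W)) (y : X) (hy : y ∈ W) (hyU : y ∈ U) :
    (Coh.structureModule X).presheaf.germ W y hy (extSec hO s hW m) =
      s.1 ⟨y, hW hy, hyU⟩ (H.presheaf.germ W y hy m) :=
  (exists_ext hO s hW m).choose_spec y hy hyU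

theorem extSec_map {W W' : X.Opens} (hW : W ≤ V) (i : W' ⟶ W) (m : Γ(H, W)) :
    extSec hO s (i.le.trans hW) (H.presheaf.map i.op m) =
      (Coh.structureModule X).presheaf.map i.op (extSec hO s hW m) :=
  secEq hO fun y hy hyU => by
    rw [germ_extSec hO s _ _ y hy hyU, TopCat.Presheaf.germ_res_apply, TopCat.Presheaf.germ_res_apply,
      germ_extSec hO s _ _ y _ hyU]

theorem germ_extSec_congr (x : X) {W W' : X.Opens} (hW : W ≤ V) (hW' : W' ≤ V) (hx : x ∈ W) (hx' : x ∈ W')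
    (m : Γ(H, W)) (m' : Γ(H, W')) (h : H.presheaf.germ W x hx m = H.presheaf.germ W' x hx' m') :
    (Coh.structureModule X).presheaf.germ W x hx (extSec hO s hW m) =
      (Coh.structureModule X).presheaf.germ W' x hx' (extSec hO s hW' m') := by
  obtain ⟨T, hxT, i, i', e⟩ := TopCat.Presheaf.germ_eq H.presheaf x hx hx' m m' h
  rw [← TopCat.Presheaf.germ_res_apply (Coh.structureModule X).presheaf i x hxT,
    ← TopCat.Presheaf.germ_res_apply (Coh.structureModule X).presheaf i' x hxT,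
    ← extSec_map hO s hW i m, ← extSec_map hO s hW' i' m']
  simp only [show H.presheaf.map i.op m = H.presheaf.map i'.op m' from e]

theorem exists_stalkHom (x : X) (hx : x ∈ V) :
    ∃ f : RefHull.StalkHom H (Coh.structureModule X) x, ∀ (W : X.Opens) (hW : W ≤ V) (hxW : x ∈ W) (m : Γ(H, W)),
      f (H.presheaf.germ W x hxW m) = (Coh.structureModule X).presheaf.germ W x hxW (extSec hO s hW m) := by
  have hrep : ∀ v : H.presheaf.stalk x, ∃ (W : X.Opens) (_ : W ≤ V) (hxW : x ∈ W) (m : Γ(H, W)),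
      H.presheaf.germ W x hxW m = v := fun v => by
    obtain ⟨W, hW, m, rfl⟩ := TopCat.Presheaf.exists_germ_eq H.presheaf v
    exact ⟨W ⊓ V, inf_le_right, ⟨hW, hx⟩, H.presheaf.map (homOfLE inf_le_left).op m,
      TopCat.Presheaf.germ_res_apply _ _ _ _ _⟩
  choose R hR hxR mR hmR using hrep
  let f : H.presheaf.stalk x → (Coh.structureModule X).presheaf.stalk x :=
    fun v => (Coh.structureModule X).presheaf.germ (R v) x (hxR v) (extSec hO s (hR v) (mR v))
  have hf : ∀ (W : X.Opens) (hW : W ≤ V) (hxW : x ∈ W) (m : Γ(H, W)),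
      f (H.presheaf.germ W x hxW m) = (Coh.structureModule X).presheaf.germ W x hxW (extSec hO s hW m) :=
    fun W hW hxW m => germ_extSec_congr hO s x _ hW _ hxW _ _ (hmR _)
  refine ⟨{ toFun := f, map_add' := fun v w => ?_, map_smul' := fun a v => ?_ }, hf⟩
  · obtain ⟨W₁, hW₁, hx₁, m₁, rfl⟩ := (⟨R v, hR v, hxR v, mR v, hmR v⟩ :
      ∃ (W : X.Opens) (_ : W ≤ V) (hxW : x ∈ W) (m : Γ(H, W)), H.presheaf.germ W x hxW m = v)
    obtain ⟨W₂, hW₂, hx₂, m₂, rfl⟩ := (⟨R w, hR w, hxR w, mR w, hmR w⟩ :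
      ∃ (W : X.Opens) (_ : W ≤ V) (hxW : x ∈ W) (m : Γ(H, W)), H.presheaf.germ W x hxW m = w)
    let W := W₁ ⊓ W₂
    have hxW : x ∈ W := ⟨hx₁, hx₂⟩
    rw [← TopCat.Presheaf.germ_res_apply H.presheaf (homOfLE inf_le_left : W ⟶ W₁) x hxW,
      ← TopCat.Presheaf.germ_res_apply H.presheaf (homOfLE inf_le_right : W ⟶ W₂) x hxW, ← map_add,
      hf W (inf_le_left.trans hW₁) hxW, hf W (inf_le_left.trans hW₁) hxW, hf W (inf_le_left.trans hW₁) hxW, ← map_add]
    refine congrArg _ (secEq hO fun y hy hyU => ?_)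
    rw [map_add, germ_extSec hO s _ _ y hy hyU, germ_extSec hO s _ _ y hy hyU, germ_extSec hO s _ _ y hy hyU,
      map_add, map_add]
  · obtain ⟨W₂, hW₂, hx₂, m, rfl⟩ := (⟨R v, hR v, hxR v, mR v, hmR v⟩ :
      ∃ (W : X.Opens) (_ : W ≤ V) (hxW : x ∈ W) (m : Γ(H, W)), H.presheaf.germ W x hxW m = v)
    obtain ⟨W₁, hx₁, r, rfl⟩ := TopCat.Presheaf.exists_germ_eq X.presheaf a
    let W := W₁ ⊓ W₂
    have hxW : x ∈ W := ⟨hx₁, hx₂⟩
    rw [← TopCat.Presheaf.germ_res_apply X.presheaf (homOfLE inf_le_left : W ⟶ W₁) x hxW,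
      ← TopCat.Presheaf.germ_res_apply H.presheaf (homOfLE inf_le_right : W ⟶ W₂) x hxW, ← Mero.germ_smul,
      hf W (inf_le_right.trans hW₂) hxW, hf W (inf_le_right.trans hW₂) hxW, RingHom.id_apply, ← Mero.germ_smul]
    refine congrArg _ (secEq hO fun y hy hyU => ?_)
    rw [Mero.germ_smul, germ_extSec hO s _ _ y hy hyU, germ_extSec hO s _ _ y hy hyU, Mero.germ_smul, map_smul]

theorem homSh_surjective :
    ∃ t : Γ(RefHull.homSh H (Coh.structureModule X), V),
      mres (RefHull.homSh H (Coh.structureModule X)) (inf_le_left : V ⊓ U ≤ V) t = s := by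
  choose f hf using fun x : V => exists_stalkHom hO s x.1 x.2
  refine ⟨⟨f, fun V' i m x => ⟨V', x.2, 𝟙 V', extSec hO s i.le m,
    fun y => hf ⟨y.1, i.le y.2⟩ V' i.le y.2 m⟩⟩, Subtype.ext (funext fun y => LinearMap.ext fun v => ?_)⟩
  obtain ⟨W, hW, m, rfl⟩ := TopCat.Presheaf.exists_germ_eq H.presheaf v
  rw [← TopCat.Presheaf.germ_res_apply H.presheaf (homOfLE inf_le_left : W ⊓ V ⟶ W) y.1 ⟨hW, y.2.1⟩]
  exact (hf ⟨y.1, y.2.1⟩ (W ⊓ V) inf_le_right ⟨hW, y.2.1⟩ _).trans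
    (germ_extSec hO s inf_le_right _ y.1 ⟨hW, y.2.1⟩ y.2.2)

omit s in
theorem homSh_injective :
    Function.Injective (mres (RefHull.homSh H (Coh.structureModule X)) (inf_le_left : V ⊓ U ≤ V)) := by
  intro t t' h
  refine Subtype.ext (funext fun x => LinearMap.ext fun v => ?_)
  obtain ⟨W, hW, m, rfl⟩ := TopCat.Presheaf.exists_germ_eq H.presheaf v
  let W₀ := W ⊓ V
  have hx₀ : x.1 ∈ W₀ := ⟨hW, x.2⟩
  rw [← TopCat.Presheaf.germ_res_apply H.presheaf (homOfLE inf_le_left : W₀ ⟶ W) x.1 hx₀]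
  let m₀ : Γ(H, W₀) := H.presheaf.map (homOfLE inf_le_left : W₀ ⟶ W).op m
  obtain ⟨W₁, hx₁, j₁, n₁, hn₁⟩ := RefHull.isLocSect_of_mem t W₀ (homOfLE inf_le_right) m₀ ⟨x.1, hx₀⟩
  obtain ⟨W₂, hx₂, j₂, n₂, hn₂⟩ := RefHull.isLocSect_of_mem t' W₀ (homOfLE inf_le_right) m₀ ⟨x.1, hx₀⟩
  let O := Coh.structureModule X
  have e : O.presheaf.map (homOfLE (inf_le_left : W₁ ⊓ W₂ ≤ W₁)).op n₁ =
      O.presheaf.map (homOfLE (inf_le_right : W₁ ⊓ W₂ ≤ W₂)).op n₂ := secEq hO fun y hy hyU => by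
    rw [TopCat.Presheaf.germ_res_apply, TopCat.Presheaf.germ_res_apply]
    refine (hn₁ ⟨y, hy.1⟩).symm.trans (Eq.trans ?_ (hn₂ ⟨y, hy.2⟩))
    have hyV : y ∈ V := (j₁.le hy.1).2
    exact congrArg (fun g => (g : RefHull.StalkHom H O y) (H.presheaf.germ W₀ y (j₁.le hy.1) m₀))
      (congrFun (congrArg Subtype.val h) ⟨y, hyV, hyU⟩)
  have e' := congrArg (O.presheaf.germ (W₁ ⊓ W₂) x.1 ⟨hx₁, hx₂⟩) e
  rw [TopCat.Presheaf.germ_res_apply, TopCat.Presheaf.germ_res_apply] at e'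
  exact (hn₁ ⟨x.1, hx₁⟩).trans (e'.trans (hn₂ ⟨x.1, hx₂⟩).symm)

omit s in
/-- A dual is the direct image of its restriction to `U`. -/
theorem isIso_unit_app_dual (H : X.Modules) :
    IsIso ((Scheme.Modules.restrictAdjunction U.ι).unit.app (RefHull.dual H)) := by
  rw [Scheme.Modules.Hom.isIso_iff_isIso_app]
  intro V
  rw [ConcreteCategory.isIso_iff_bijective, Scheme.Modules.restrictAdjunction_unit_app_app]
  have key : ∀ (W : X.Opens) (hle : W ≤ V), W = V ⊓ U →
      Function.Bijective (mres (RefHull.dual H) hle) := by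
    intro W hle hW
    subst hW
    exact ⟨homSh_injective hO, fun s => homSh_surjective hO s⟩
  exact key _ _ (GrothLib.Depth.image_preimage_eq_inf U V)

end GrothLib.DualHartogs2
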